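import Cfsg.Agent.Lib.Classical.RegularNilpotent
import Cfsg.Agent.Lib.Classical.Sourour.Basic

set_option autoImplicit false

/-!
# Triangular regular unipotent matrices are similar to each other
-/

namespace CfsgLib.Classical.RegularUnipotentProduct

open Matrix CfsgLib.Classical.UnipotentGen CfsgLib.Classical.Sourour

variable {K : Type*} [Field K] {m : ℕ}

/-- Lower unitriangular with non-zero subdiagonal. -/
def LowReg (L : Matrix (Fin (m + 1)) (Fin (m + 1)) K) : Prop :=
  ∀ i j, (i.val < j.val → L i j = 0) ∧ (i = j → L i j = 1) ∧ (i.val = j.val + 1 → L i j ≠ 0)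

/-- Upper unitriangular with non-zero superdiagonal. -/
def UpReg (U : Matrix (Fin (m + 1)) (Fin (m + 1)) K) : Prop :=
  ∀ i j, (j.val < i.val → U i j = 0) ∧ (i = j → U i j = 1) ∧ (j.val = i.val + 1 → U i j ≠ 0)

/-- The standard regular unipotent matrix. -/
abbrev std (m : ℕ) (K : Type*) [Field K] : Matrix (Fin (m + 1)) (Fin (m + 1)) K := 1 + loN fun _ => 1

/-- Similarity of matrices. -/
def Sim (A B : Matrix (Fin (m + 1)) (Fin (m + 1)) K) : Prop :=
  ∃ P : Matrix (Fin (m + 1)) (Fin (m + 1)) K, P.det ≠ 0 ∧ A * P = P * B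

theorem sim_of_lowReg {L : Matrix (Fin (m + 1)) (Fin (m + 1)) K} (hL : LowReg L) : Sim L (std m K) := by
  set N := L - 1 with hN
  have hNle : ∀ i j : Fin (m + 1), i.val ≤ j.val → N i j = 0 := by
    intro i j hij
    rcases eq_or_ne i j with rfl | hne
    · rw [hN, Matrix.sub_apply, Matrix.one_apply_eq, (hL i i).2.1 rfl, sub_self]
    · rw [hN, Matrix.sub_apply, Matrix.one_apply_ne hne,
        (hL i j).1 (lt_of_le_of_ne hij fun h => hne (Fin.ext h)), sub_self]
  have hNs : ∀ i j : Fin (m + 1), i.val = j.val + 1 → N i j ≠ 0 := by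
    intro i j hij
    rw [hN, Matrix.sub_apply, Matrix.one_apply_ne (fun h => by subst h; omega), sub_zero]
    exact (hL i j).2.2 hij
  have key : ∀ k : ℕ, k ≤ m → (∀ i : Fin (m + 1), i.val < k → (N ^ k *ᵥ ev 0) i = 0) ∧
      ∀ i : Fin (m + 1), i.val = k → (N ^ k *ᵥ ev 0) i ≠ 0 := by
    intro k
    induction k with
    | zero =>
      intro _
      refine ⟨fun i hi => absurd hi (Nat.not_lt_zero _), fun i hi => ?_⟩
      rw [pow_zero, one_mulVec, ev, show i = 0 from Fin.ext hi, Pi.single_eq_same]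
      exact one_ne_zero
    | succ k ih =>
      intro hk
      obtain ⟨h0, h1⟩ := ih (by omega)
      have hterm : ∀ i j : Fin (m + 1), i.val ≤ k + 1 → j.val ≠ k → N i j * (N ^ k *ᵥ ev 0) j = 0 := by
        intro i j hi hj
        rcases Nat.lt_or_ge j.val k with h | h
        · rw [h0 j h, mul_zero]
        · rw [hNle i j (by omega), zero_mul]
      refine ⟨fun i hi => ?_, fun i hi => ?_⟩
      · rw [pow_succ', ← mulVec_mulVec]
        refine (Finset.sum_eq_zero fun j _ => ?_ : ∑ j, N i j * (N ^ k *ᵥ ev 0) j = 0)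
        rcases eq_or_ne j.val k with h | h
        · show N i j * _ = 0
          rw [hNle i j (by omega), zero_mul]
        · exact hterm i j (by omega) h
      · rw [pow_succ', ← mulVec_mulVec, mulVec, dotProduct, Finset.sum_eq_single ⟨k, by omega⟩]
        · exact mul_ne_zero (hNs i _ (by simpa using hi)) (h1 _ rfl)
        · intro j _ hj
          exact hterm i j (by omega) fun h => hj (Fin.ext h)
        · simp
  have hend : N ^ (m + 1) *ᵥ ev 0 = 0 := by
    funext i
    rw [pow_succ', ← mulVec_mulVec]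
    refine (Finset.sum_eq_zero fun j _ => ?_ : ∑ j, N i j * (N ^ m *ᵥ ev 0) j = 0)
    show N i j * _ = 0
    rcases Nat.lt_or_ge j.val m with h | h
    · rw [(key m le_rfl).1 j h, mul_zero]
    · rw [hNle i j (by omega), zero_mul]
  have hdet : (kry N (ev 0)).det ≠ 0 := by
    rw [det_of_isLowerTriangular]
    · exact Finset.prod_ne_zero_iff.2 fun i _ => (key i.val (by omega)).2 i rfl
    · intro i j hij
      have h : i < j := hij
      exact (key j.val (by omega)).1 i h
  refine ⟨_, hdet, ?_⟩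
  rw [std, show L = 1 + N by rw [hN, add_sub_cancel], Matrix.add_mul, Matrix.one_mul, Matrix.mul_add,
    Matrix.mul_one, mul_kry hend]

theorem sim_of_upReg {U : Matrix (Fin (m + 1)) (Fin (m + 1)) K} (hU : UpReg U) : Sim U (std m K) := by
  have hL : LowReg (U.submatrix Fin.revPerm Fin.revPerm) := by
    intro i j
    simp only [submatrix_apply, Fin.revPerm_apply]
    refine ⟨fun h => (hU _ _).1 ?_, fun h => (hU _ _).2.1 (by rw [h]), fun h => (hU _ _).2.2 ?_⟩
    · simp only [Fin.val_rev]; omega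
    · simp only [Fin.val_rev]; omega
  obtain ⟨P, hP, hLP⟩ := sim_of_lowReg hL
  refine ⟨P.submatrix Fin.revPerm id, ?_, ?_⟩
  · rw [det_permute]
    exact mul_ne_zero (by rcases Int.units_eq_one_or (Equiv.Perm.sign (Fin.revPerm : Equiv.Perm (Fin (m + 1)))) with h | h <;> simp [h]) hP
  · ext i j
    have h := congrFun (congrFun hLP (Fin.revPerm i)) j
    simp only [Matrix.mul_apply, submatrix_apply, id] at h ⊢
    rw [← h]
    exact (Fintype.sum_equiv Fin.revPerm _ _ fun k => by simp).symm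

/-- A product of two triangular regular unipotents gives two conjugates of `J`. -/
theorem exists_conjugates {g J : GL (Fin (m + 1)) K} (hJ : UpReg (J : Matrix (Fin (m + 1)) (Fin (m + 1)) K))
    {Q A B : Matrix (Fin (m + 1)) (Fin (m + 1)) K} (hQ : Q.det ≠ 0)
    (hg : (g : Matrix (Fin (m + 1)) (Fin (m + 1)) K) * Q = Q * (A * B)) (hA : Sim A (std m K)) (hB : Sim B (std m K)) :
    ∃ x y : GL (Fin (m + 1)) K, g = (x * J * x⁻¹) * (y * J * y⁻¹) := by
  obtain ⟨R, hR, hJR⟩ := sim_of_upReg hJ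
  obtain ⟨P₁, hP₁, hAP⟩ := hA
  obtain ⟨P₂, hP₂, hBP⟩ := hB
  let q := GeneralLinearGroup.mkOfDetNeZero Q hQ
  let r := GeneralLinearGroup.mkOfDetNeZero R hR
  let p₁ := GeneralLinearGroup.mkOfDetNeZero P₁ hP₁
  let p₂ := GeneralLinearGroup.mkOfDetNeZero P₂ hP₂
  have h1 : (q : Matrix (Fin (m + 1)) (Fin (m + 1)) K) = Q := rfl
  have hc : ∀ (p : GL (Fin (m + 1)) K) (X : Matrix (Fin (m + 1)) (Fin (m + 1)) K), X * p.1 = p.1 * std m K →
      (p * r⁻¹ * J * (p * r⁻¹)⁻¹ : GL (Fin (m + 1)) K).1 = X := by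
    intro p X hX
    have e : (J : Matrix (Fin (m + 1)) (Fin (m + 1)) K) * r.1 = r.1 * std m K := hJR
    have e' : r⁻¹.1 * J.1 * r.1 = std m K := by rw [Matrix.mul_assoc, e, ← Matrix.mul_assoc, Units.inv_mul, one_mul]
    rw [_root_.mul_inv_rev, inv_inv]
    simp only [Units.val_mul]
    calc p.1 * r⁻¹.1 * J.1 * (r.1 * p⁻¹.1) = p.1 * (r⁻¹.1 * J.1 * r.1) * p⁻¹.1 := by simp only [Matrix.mul_assoc]
      _ = X := by rw [e', ← hX, Matrix.mul_assoc, Units.mul_inv, mul_one]
  refine ⟨q * (p₁ * r⁻¹), q * (p₂ * r⁻¹), Units.ext ?_⟩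
  have e1 := hc p₁ A hAP
  have e2 := hc p₂ B hBP
  have e : ∀ z : GL (Fin (m + 1)) K, q * z * J * (q * z)⁻¹ = q * (z * J * z⁻¹) * q⁻¹ := fun z => by group
  rw [e, e, show q * (p₁ * r⁻¹ * J * (p₁ * r⁻¹)⁻¹) * q⁻¹ * (q * (p₂ * r⁻¹ * J * (p₂ * r⁻¹)⁻¹) * q⁻¹) =
    q * ((p₁ * r⁻¹ * J * (p₁ * r⁻¹)⁻¹) * (p₂ * r⁻¹ * J * (p₂ * r⁻¹)⁻¹)) * q⁻¹ by group]
  simp only [Units.val_mul] at e1 e2 ⊢
  rw [e1, e2, h1, ← hg, ← h1, Matrix.mul_assoc, Units.mul_inv, mul_one]

/-- A matrix of the form `1 + u fᵀ` with `f ⬝ u = 0` is a product of two regular unipotents. -/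
theorem transvection {u f : Fin (m + 1) → K} (hm : 2 ≤ m) (hu : u ≠ 0) (hf : f ≠ 0) (hfu : f ⬝ᵥ u = 0) :
    ∃ Q A B : Matrix (Fin (m + 1)) (Fin (m + 1)) K, Q.det ≠ 0 ∧
      (1 + vecMulVec u f) * Q = Q * (A * B) ∧ Sim A (std m K) ∧ Sim B (std m K) := by
  classical
  -- a basis adapted to the pair
  obtain ⟨P₀, hP₀, hcol⟩ := exists_col hu
  set e : Fin (m + 1) → K := f ᵥ* P₀ with he
  have he0 : e 0 = 0 := by
    rw [← hfu, he, vecMul, dotProduct, dotProduct]
    simp only [hcol]
  obtain ⟨k, rfl⟩ : ∃ k, m = k + 1 := ⟨m - 1, by omega⟩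
  set h : Fin (k + 1) → K := fun i => e i.succ
  have hh : h ≠ 0 := by
    intro h0
    refine hf ?_
    have : e = 0 := funext fun i => Fin.cases he0 (fun i => congrFun h0 i) i
    have h1 := congrArg (· ᵥ* P₀⁻¹) this
    simpa [he, vecMul_vecMul, Matrix.mul_nonsing_inv _ (isUnit_iff_ne_zero.2 hP₀)] using h1
  obtain ⟨C, hC, hCcol⟩ := exists_col hh
  have hCT : IsUnit (Cᵀ).det := by rw [det_transpose]; exact isUnit_iff_ne_zero.2 hC
  let R : Matrix (Fin (k + 1)) (Fin (k + 1)) K :=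
    (Cᵀ)⁻¹.submatrix id (Equiv.swap 0 ⟨1, by omega⟩)
  have hR : R.det ≠ 0 := by
    rw [det_permute']
    refine mul_ne_zero (by rcases Int.units_eq_one_or (Equiv.Perm.sign (Equiv.swap (0 : Fin (k + 1)) ⟨1, by omega⟩)) with h | h <;> simp [h]) ?_
    exact isUnit_iff_ne_zero.1 (Matrix.isUnit_nonsing_inv_det _ hCT)
  have hhR : h ᵥ* R = Pi.single ⟨1, by omega⟩ 1 := by
    funext j
    have h1 : (h ᵥ* (Cᵀ)⁻¹) = Pi.single 0 1 := by
      have e1 : h = Pi.single 0 1 ᵥ* Cᵀ := by
        funext i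
        rw [single_one_vecMul]
        exact (hCcol i).symm
      rw [e1, vecMul_vecMul, Matrix.mul_nonsing_inv _ hCT, vecMul_one]
    have h2 := congrFun h1 (Equiv.swap 0 ⟨1, by omega⟩ j)
    rw [show (h ᵥ* R) j = (h ᵥ* (Cᵀ)⁻¹) (Equiv.swap 0 ⟨1, by omega⟩ j) from rfl, h2]
    simp only [Pi.single_apply]
    refine if_congr ?_ rfl rfl
    rw [Equiv.apply_eq_iff_eq_symm_apply, Equiv.symm_swap, Equiv.swap_apply_left]
  set P := P₀ * bord 1 0 0 R with hP
  have hPdet : P.det ≠ 0 := by rw [hP, det_mul, det_bord_upper, one_mul]; exact mul_ne_zero hP₀ hR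
  have hPcol : ∀ i, P i 0 = u i := fun i => by simp [hP, Matrix.mul_apply, Fin.sum_univ_succ, hcol]
  set w : Fin (k + 1 + 1) → K := Pi.single ⟨2, by omega⟩ 1
  have hfP : f ᵥ* P = w := by
    rw [hP, ← vecMul_vecMul, ← he]
    funext j
    refine Fin.cases ?_ (fun j => ?_) j
    · simp [vecMul, dotProduct, Fin.sum_univ_succ, he0, w, Pi.single_apply, Fin.ext_iff]
    · have := congrFun hhR j
      simp only [vecMul, dotProduct, Fin.sum_univ_succ (n := k + 1), he0, zero_mul, zero_add, bord_succ_succ]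
      refine this.trans ?_
      simp [w, Pi.single_apply, Fin.ext_iff]
  -- the model
  set T : Matrix (Fin (k + 1 + 1)) (Fin (k + 1 + 1)) K := 1 + vecMulVec (Pi.single 0 1) w with hT
  have hgP : (1 + vecMulVec u f) * P = P * T := by
    rw [hT, Matrix.add_mul, one_mul, Matrix.mul_add, mul_one, Matrix.vecMulVec_mul, Matrix.mul_vecMulVec, hfP,
      mulVec_single_one]
    congr 2
    exact funext fun i => (hPcol i).symm
  let X : Matrix (Fin (k + 1 + 1)) (Fin (k + 1 + 1)) K :=
    Matrix.of fun i j => if i = j ∨ j.val = i.val + 1 then 1 else 0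
  have hX : UpReg X := fun i j => by
    refine ⟨fun h => ?_, fun h => ?_, fun h => ?_⟩
    · exact if_neg (by rintro (rfl | h') <;> omega)
    · exact if_pos (Or.inl h)
    · show (if i = j ∨ j.val = i.val + 1 then (1 : K) else 0) ≠ 0
      rw [if_pos (Or.inr h)]; exact one_ne_zero
  have hXdet : X.det = 1 := by
    rw [det_of_isUpperTriangular (fun i j h => (hX i j).1 h)]
    exact Finset.prod_eq_one fun i _ => (hX i i).2.1 rfl
  set Y := X⁻¹ * T with hY
  have hXu : IsUnit X.det := by rw [hXdet]; exact isUnit_one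
  have hXY : X * Y = T := by rw [hY, ← Matrix.mul_assoc, Matrix.mul_nonsing_inv _ hXu, one_mul]
  have hTtri : ∀ i j : Fin (k + 1 + 1), j.val < i.val → T i j = 0 := by
    intro i j hij
    simp only [hT, Matrix.add_apply, vecMulVec_apply, w, Pi.single_apply]
    rw [Matrix.one_apply_ne (fun h => by subst h; omega), if_neg (show ¬i = 0 from fun h => by simp [h] at hij)]
    simp
  have hYtri : ∀ i j : Fin (k + 1 + 1), j.val < i.val → Y i j = 0 := by
    haveI := Matrix.invertibleOfIsUnitDet X hXu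
    have h1 : BlockTriangular X⁻¹ id := Matrix.blockTriangular_inv_of_blockTriangular (fun i j h => (hX i j).1 h)
    intro i j hij
    exact (h1.mul (show BlockTriangular T id from fun i j h => hTtri i j h)) hij
  have hrow : ∀ (i j : Fin (k + 1 + 1)) (hi : i.val + 1 < k + 1 + 1),
      T i j = Y i j + Y ⟨i.val + 1, hi⟩ j := by
    intro i j hi
    rw [← hXY, Matrix.mul_apply, Finset.sum_eq_add i ⟨i.val + 1, hi⟩ (fun h => by simp [Fin.ext_iff] at h)]
    · simp [X]
    · rintro l - ⟨h1, h2⟩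
      rw [show X i l = 0 from if_neg (by
        rintro (rfl | h)
        · exact h1 rfl
        · exact h2 (Fin.ext h)), zero_mul]
    · simp
    · simp
  have hYd : ∀ i, Y i i = 1 := by
    intro i
    have hTi : T i i = 1 := by
      simp only [hT, Matrix.add_apply, vecMulVec_apply, w, Pi.single_apply, Matrix.one_apply_eq]
      rcases eq_or_ne i 0 with rfl | h
      · simp [Fin.ext_iff]
      · simp [h]
    by_cases hi : i.val + 1 < k + 1 + 1
    · have := hrow i i hi
      rw [hTi, hYtri ⟨i.val + 1, hi⟩ i (by simp), add_zero] at this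
      exact this.symm
    · rw [← hTi, ← hXY, Matrix.mul_apply, Finset.sum_eq_single i]
      · rw [(hX i i).2.1 rfl, one_mul]
      · intro l _ hl
        rw [show X i l = 0 from if_neg (by
          rintro (rfl | h)
          · exact hl rfl
          · omega), zero_mul]
      · simp
  have hYreg : UpReg Y := fun i j => ⟨hYtri i j, fun h => h ▸ hYd i, fun h => by
    have hi : i.val + 1 < k + 1 + 1 := by omega
    have e := hrow i j hi
    rw [show (⟨i.val + 1, hi⟩ : Fin (k + 1 + 1)) = j from Fin.ext h.symm, hYd j] at e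
    have hTij : T i j = 0 := by
      simp only [hT, Matrix.add_apply, vecMulVec_apply, w, Pi.single_apply]
      rw [Matrix.one_apply_ne (fun h' => by subst h'; omega)]
      rcases eq_or_ne i 0 with rfl | h'
      · rw [if_neg (show ¬j = (⟨2, _⟩ : Fin (k + 1 + 1)) from fun h'' => by simp [h''] at h)]
        simp
      · simp [h']
    rw [hTij] at e
    intro h0
    rw [h0, zero_add] at e
    exact one_ne_zero e.symm⟩
  exact ⟨P, X, Y, hPdet, by rw [hXY, hgP], sim_of_upReg hX, sim_of_upReg hYreg⟩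

end CfsgLib.Classical.RegularUnipotentProduct
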