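import Cfsg.Agent.Lib.Classical.RegularUnipotentProduct.Choose
import Cfsg.Agent.Lib.Classical.RegularUnipotentProduct.Regular

set_option autoImplicit false

/-!
# A matrix `S` of determinant one with `S - 1` of rank at least two is similar to a product of a lower and
an upper regular unipotent matrix
-/

namespace CfsgLib.Classical.RegularUnipotentProduct

open Matrix Module CfsgLib.Classical.Sourour

variable {K : Type*} [Field K] {m : ℕ}

/-- `S - 1` has rank at least two and `S` is not scalar. -/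
def Wide (S : Matrix (Fin (m + 1)) (Fin (m + 1)) K) : Prop :=
  NonScalar S ∧ 2 ≤ finrank K (LinearMap.range (S - 1).mulVecLin)

theorem rows (t : (Fin (m + 1) → K) →ₗ[K] K) (v : Fin (m + 1) → K) :
    t v = (fun i => t (Pi.single i 1)) ⬝ᵥ v := by
  conv_lhs => rw [pi_eq_sum_univ' v, map_sum]
  refine Finset.sum_congr rfl fun i _ => ?_
  rw [map_smul, smul_eq_mul, mul_comm]

/-- In dimension three `(S - 1)²` is no multiple of `S`. -/
theorem dim_three {S : Matrix (Fin 3) (Fin 3) K} (hdet : S.det = 1) (hS : Wide S) (a : K) :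
    (S - 1) * (S - 1) ≠ a • S := by
  intro h
  obtain ⟨hns, hrk⟩ := hS
  by_cases hd : (S - 1).det = 0
  · obtain ⟨v, hv, hv0⟩ := Matrix.exists_mulVec_eq_zero_iff.2 hd
    have ha : a = 0 := by
      have h1 := congrArg (· *ᵥ v) h
      simp only [← mulVec_mulVec, hv0, mulVec_zero, smul_mulVec] at h1
      have hSv : S *ᵥ v = v := by rwa [sub_mulVec, one_mulVec, sub_eq_zero] at hv0
      rw [hSv] at h1
      exact (smul_eq_zero.1 h1.symm).resolve_right hv
    rw [ha, zero_smul] at h
    have hle : LinearMap.range (S - 1).mulVecLin ≤ LinearMap.ker (S - 1).mulVecLin := by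
      rintro w ⟨u, rfl⟩
      rw [LinearMap.mem_ker, mulVecLin_apply, mulVecLin_apply, mulVec_mulVec, h, zero_mulVec]
    have h2 := (S - 1).mulVecLin.finrank_range_add_finrank_ker
    have h3 := Submodule.finrank_mono hle
    rw [Module.finrank_fin_fun] at h2
    have hrk' : 2 ≤ finrank K (LinearMap.range (S - 1).mulVecLin) := hrk
    omega
  · set b := a + 2 with hb
    have h2 : S * S = b • S - 1 := by
      have e : (S - 1) * (S - 1) = S * S - S - S + 1 := by noncomm_ring
      rw [e] at h
      have e2 : b • S - 1 = a • S + S + S - 1 := by rw [hb, add_smul, two_smul, add_assoc]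
      rw [e2, ← h]; abel
    have h3 : S ^ 3 = (b * b - 1) • S - b • 1 := by
      rw [pow_succ, pow_two, h2, sub_mul, Matrix.smul_mul, h2, one_mul, smul_sub, smul_smul, sub_smul, one_smul]
      abel
    have hdeg : S.charpoly.natDegree = 3 := by rw [Matrix.charpoly_natDegree_eq_dim, Fintype.card_fin]
    have h0 : S.charpoly.coeff 0 = -1 := by
      have e := Matrix.det_eq_sign_charpoly_coeff S
      rw [hdet, Fintype.card_fin] at e
      show S.charpoly.coeff 0 = -1
      linear_combination e
    have h33 : S.charpoly.coeff 3 = 1 := by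
      have := (Matrix.charpoly_monic S).coeff_natDegree
      rwa [hdeg] at this
    have hCH := Matrix.aeval_self_charpoly S
    rw [Polynomial.aeval_eq_sum_range, hdeg] at hCH
    simp only [Finset.sum_range_succ, Finset.sum_range_zero, zero_add, pow_zero, pow_one, h33, h0, one_smul,
      pow_two, h2, h3, smul_sub, smul_smul] at hCH
    obtain ⟨p, hp⟩ : ∃ p, p = S.charpoly.coeff 1 + S.charpoly.coeff 2 * b + (b * b - 1) := ⟨_, rfl⟩
    obtain ⟨q, hq⟩ : ∃ q, q = -1 - S.charpoly.coeff 2 - b := ⟨_, rfl⟩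
    have hpq : p • S + q • (1 : Matrix (Fin 3) (Fin 3) K) = 0 := by
      rw [← hCH, hp, hq]
      module
    have hp0 : p = 0 := by
      by_contra hp0
      refine hns ⟨-(q / p), ?_⟩
      have : p • S = -(q • (1 : Matrix (Fin 3) (Fin 3) K)) := eq_neg_of_add_eq_zero_left hpq
      rw [← inv_smul_smul₀ hp0 S, this, smul_neg, smul_smul, neg_smul, div_eq_inv_mul]
    have hq0 : q = 0 := by
      rw [hp0, zero_smul, zero_add] at hpq
      simpa using congrFun (congrFun hpq 0) 0
    refine hd ?_
    have hev : S.charpoly.eval 1 = 0 := by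
      rw [Polynomial.eval_eq_sum_range, hdeg]
      simp only [Finset.sum_range_succ, Finset.sum_range_zero, zero_add, one_pow, mul_one, h0]
      linear_combination h33 + hp0 + (b - 1) * hq0 - hp - (b - 1) * hq
    rw [Matrix.eval_charpoly, map_one, ← neg_sub, Matrix.det_neg, Fintype.card_fin] at hev
    simpa using hev

theorem bord_mulVec (a : K) (r c : Fin (m + 1) → K) (D : Matrix (Fin (m + 1)) (Fin (m + 1)) K) (v : Fin (m + 1) → K) :
    bord a r c D *ᵥ Fin.cons 0 v = Fin.cons (r ⬝ᵥ v) (D *ᵥ v) := by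
  funext i
  refine Fin.cases ?_ (fun i => ?_) i <;> simp [mulVec, dotProduct, Fin.sum_univ_succ (n := m + 1)]

theorem bord_lowReg {c : Fin (m + 1) → K} (hc : c 0 ≠ 0) {L : Matrix (Fin (m + 1)) (Fin (m + 1)) K} (hL : LowReg L) :
    LowReg (bord 1 0 c L) := by
  intro i j
  refine Fin.cases ?_ (fun i => ?_) i <;> refine Fin.cases ?_ (fun j => ?_) j
  · exact ⟨fun h => absurd h (lt_irrefl _), fun _ => rfl, fun h => by simp at h⟩
  · exact ⟨fun _ => rfl, fun h => absurd h (Fin.succ_ne_zero j).symm, fun h => by simp at h⟩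
  · refine ⟨fun h => by simp at h, fun h => absurd h (Fin.succ_ne_zero i), fun h => ?_⟩
    rw [bord_succ_zero, show i = 0 from Fin.ext (by simp at h ⊢; omega)]; exact hc
  · rw [bord_succ_succ]
    exact ⟨fun h => (hL i j).1 (by simp at h; omega), fun h => (hL i j).2.1 (Fin.succ_inj.1 h),
      fun h => (hL i j).2.2 (by simp at h; omega)⟩

theorem bord_upReg {r : Fin (m + 1) → K} (hr : r 0 ≠ 0) {U : Matrix (Fin (m + 1)) (Fin (m + 1)) K} (hU : UpReg U) :
    UpReg (bord 1 r 0 U) := by
  intro i j
  refine Fin.cases ?_ (fun i => ?_) i <;> refine Fin.cases ?_ (fun j => ?_) j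
  · exact ⟨fun h => absurd h (lt_irrefl _), fun _ => rfl, fun h => by simp at h⟩
  · refine ⟨fun h => by simp at h, fun h => absurd h (Fin.succ_ne_zero j).symm, fun h => ?_⟩
    rw [bord_zero_succ, show j = 0 from Fin.ext (by simp at h ⊢; omega)]; exact hr
  · exact ⟨fun _ => rfl, fun h => absurd h (Fin.succ_ne_zero i), fun h => by simp at h⟩
  · rw [bord_succ_succ]
    exact ⟨fun h => (hU i j).1 (by simp at h; omega), fun h => (hU i j).2.1 (Fin.succ_inj.1 h),
      fun h => (hU i j).2.2 (by simp at h; omega)⟩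

/-- The factorisation. -/
theorem factor (h4 : Four K) : ∀ (m : ℕ) (S : Matrix (Fin (m + 1)) (Fin (m + 1)) K), S.det = 1 → (1 ≤ m → Wide S) →
    ∀ c r : Fin (m + 1) → K, c ≠ 0 → r ≠ 0 →
      ∃ Q L U : Matrix (Fin (m + 1)) (Fin (m + 1)) K, Q.det ≠ 0 ∧ S * Q = Q * (L * U) ∧ LowReg L ∧ UpReg U ∧
        (Q⁻¹ *ᵥ c) 0 ≠ 0 ∧ (r ᵥ* Q) 0 ≠ 0 := by
  classical
  intro m
  induction m with
  | zero =>
    intro S hS _ c r hc hr
    have hne : ∀ w : Fin (0 + 1) → K, w ≠ 0 → w 0 ≠ 0 := fun w hw h => hw (funext fun i => by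
      rw [show i = 0 from Fin.ext (by omega), h]; rfl)
    refine ⟨1, 1, 1, by simp, ?_, ?_, ?_, ?_, ?_⟩
    · ext i j
      rw [Matrix.det_fin_one] at hS
      fin_cases i; fin_cases j
      simpa using hS
    · intro i j; fin_cases i; fin_cases j; simp
    · intro i j; fin_cases i; fin_cases j; simp
    · simpa using hne c hc
    · simpa using hne r hr
  | succ n ih =>
    intro S hdet hwide c r hc hr
    obtain ⟨hns, hrk⟩ := hwide (by omega)
    set M := (S - 1).mulVecLin with hM
    have hV : finrank K (Fin (n + 1 + 1) → K) = n + 2 := Module.finrank_fin_fun K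
    have hMS : ∀ v, M v + v = S *ᵥ v := fun v => by
      rw [hM, mulVecLin_apply, sub_mulVec, one_mulVec, sub_add_cancel]
    have hSu : IsUnit S.det := by rw [hdet]; exact isUnit_one
    have hinj : ∀ v, M v + v = 0 → v = 0 := fun v h => by
      rw [hMS] at h
      have := congrArg (S⁻¹ *ᵥ ·) h
      simpa [mulVec_mulVec, Matrix.nonsing_inv_mul _ hSu] using this
    have hnsM : ∀ a : K, ∃ v, M v ≠ a • v := fun a => by
      by_contra! h
      refine hns ⟨a + 1, Matrix.ext_of_mulVec_single fun j => ?_⟩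
      rw [← hMS, h, smul_mulVec, one_mulVec, add_smul, one_smul]
    have hN : finrank K (Fin (n + 1 + 1) → K) = 3 → ∀ a : K, ∃ v, M (M v) ≠ a • (M v + v) := by
      intro h3 a
      obtain rfl : n = 1 := by omega
      by_contra! h
      refine dim_three hdet ⟨hns, hrk⟩ a (Matrix.ext_of_mulVec_single fun j => ?_)
      rw [← mulVec_mulVec, smul_mulVec, ← hMS]
      exact h _
    let rl : (Fin (n + 1 + 1) → K) →ₗ[K] K :=
      { toFun := fun v => r ⬝ᵥ v, map_add' := fun v w => dotProduct_add r v w, map_smul' := fun a v => dotProduct_smul a r v }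
    have hrl : rl ≠ 0 := fun h => hr (funext fun i => by
      simpa [rl] using DFunLike.congr_fun h (Pi.single i 1))
    obtain ⟨x, hrx, hcx, hxeig, hN3, hxrange⟩ := choose_vec h4 M hrk hnsM hinj hN rl hrl c hc
    obtain ⟨t, htx, hty, htc, ⟨v₀, hv₀⟩, hsmall, hμ⟩ := choose_covec h4 M hrk hxeig hcx hN3 hxrange
    set τ : Fin (n + 1 + 1) → K := fun i => t (Pi.single i 1) with hτ
    have ht : ∀ v, t v = τ ⬝ᵥ v := rows t
    have hx0 : x ≠ 0 := fun h => hrx (by rw [h, map_zero])
    -- adapt a basis
    obtain ⟨P₀, hP₀, hcol⟩ := exists_col hx0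
    set u : Fin (n + 1) → K := fun j => -(τ ᵥ* P₀) j.succ
    obtain ⟨P, hP⟩ : ∃ P, P = P₀ * bord 1 u 0 1 := ⟨_, rfl⟩
    have hPdet : P.det ≠ 0 := by rw [hP, det_mul, det_bord_upper, det_one, mul_one, mul_one]; exact hP₀
    have hPu : IsUnit P.det := isUnit_iff_ne_zero.2 hPdet
    have hτP : τ ᵥ* P = Pi.single 0 1 := by
      have h0 : (τ ᵥ* P₀) 0 = 1 := by
        rw [← htx, ht, vecMul, dotProduct, dotProduct]; simp only [hcol]
      rw [hP, ← vecMul_vecMul]
      funext j
      refine Fin.cases ?_ (fun j => ?_) j <;>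
        simp [vecMul, dotProduct, Fin.sum_univ_succ (n := n + 1)] <;>
        simp [show (τ ᵥ* P₀) 0 = 1 from h0, vecMul, dotProduct] at *
      · simpa [Fin.sum_univ_succ (n := n + 1)] using h0
      · simp [u, vecMul, dotProduct, Matrix.one_apply, Fin.sum_univ_succ (n := n + 1)] at *
        rw [h0]; simp
    have hPcol : P *ᵥ Pi.single 0 1 = x := funext fun i => by
      simp [hP, mulVec_single_one, Matrix.mul_apply, Fin.sum_univ_succ (n := n + 1), hcol]
    have htP : ∀ v, t (P *ᵥ v) = v 0 := fun v => by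
      rw [ht, dotProduct_mulVec, hτP, single_one_dotProduct]
    obtain ⟨M', hM'⟩ : ∃ M', S * P = P * M' := ⟨P⁻¹ * (S * P), by
      rw [← Matrix.mul_assoc, Matrix.mul_nonsing_inv _ hPu, Matrix.one_mul]⟩
    obtain ⟨a, r', c', D, rfl⟩ : ∃ a r' c' D, M' = bord a r' c' D := ⟨_, _, _, _, eq_bord M'⟩
    have hSP : ∀ v, S *ᵥ (P *ᵥ v) = P *ᵥ (bord a r' c' D *ᵥ v) := fun v => by
      rw [mulVec_mulVec, hM', ← mulVec_mulVec]
    have ha : a = 1 := by
      have h := congrArg t (hSP (Pi.single 0 1))
      rw [hPcol, htP, ← hMS, map_add, hty, htx, zero_add, mulVec_single_one] at h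
      exact h.symm
    subst ha
    have hSx : S *ᵥ x = P *ᵥ Fin.cons 1 c' := by
      conv_lhs => rw [← hPcol]
      rw [hSP, mulVec_single_one]
      congr 1
      funext i; refine Fin.cases ?_ (fun i => ?_) i <;> rfl
    have hc' : c' ≠ 0 := by
      intro h
      refine hxeig 0 ?_
      have : S *ᵥ x = x := by
        rw [hSx, h]; conv_rhs => rw [← hPcol]
        congr 1
        funext i; refine Fin.cases ?_ (fun i => ?_) i <;> simp
      rw [zero_smul]
      exact add_eq_right.1 ((hMS x).trans this)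
    have hr' : r' ≠ 0 := by
      intro h
      obtain ⟨v, rfl⟩ : ∃ v, P *ᵥ v = v₀ := ⟨P⁻¹ *ᵥ v₀, by rw [mulVec_mulVec, Matrix.mul_nonsing_inv _ hPu, one_mulVec]⟩
      have h' : t (M (P *ᵥ v) + P *ᵥ v) = t (P *ᵥ v) := by
        rw [hMS, hSP, htP, htP, h]
        simp [mulVec, dotProduct, Fin.sum_univ_succ (n := n + 1)]
      rw [map_add] at h'
      exact hv₀ (add_eq_right.1 h')
    set S' := D - vecMulVec c' r' with hS'
    have hfac : bord 1 r' c' D = bord 1 0 c' 1 * bord 1 r' 0 S' := by
      rw [bord_mul]; congr 1 <;> simp [hS']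
    have hdet' : S'.det = 1 := by
      have h := congrArg Matrix.det hM'
      rw [det_mul, det_mul, hdet, one_mul, hfac, det_mul, det_bord_lower, det_bord_upper, det_one, one_mul, one_mul,
        one_mul] at h
      exact (mul_eq_left₀ hPdet).1 h.symm
    -- the complement acts as `S` on the kernel of `t` modulo `S x`
    have key : ∀ (w : Fin (n + 1) → K) (μ : K), S' *ᵥ w = μ • w →
        S *ᵥ (P *ᵥ Fin.cons 0 w) = μ • (P *ᵥ Fin.cons 0 w) + (r' ⬝ᵥ w) • (S *ᵥ x) := by
      intro w μ h
      rw [hSP, bord_mulVec, hSx, ← mulVec_smul, ← mulVec_smul, ← mulVec_add]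
      congr 1
      have hD : D *ᵥ w = μ • w + (r' ⬝ᵥ w) • c' := by
        rw [← h, hS', sub_mulVec, vecMulVec_mulVec, op_smul_eq_smul, sub_add_cancel]
      funext i
      refine Fin.cases ?_ (fun i => ?_) i <;> simp [hD]
    have hwide' : 1 ≤ n → Wide S' := by
      intro hn
      have hfr : finrank K (LinearMap.range (S' - 1).mulVecLin) ≥ 2 := by
        have h1 := (S' - 1).mulVecLin.finrank_range_add_finrank_ker
        rw [Module.finrank_fin_fun] at h1
        let ψ : (Fin (n + 1) → K) →ₗ[K] (Fin (n + 1 + 1) → K) :=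
          { toFun := fun w => P *ᵥ Fin.cons 0 w
            map_add' := fun v w => by
              rw [← mulVec_add]; congr 1; funext i; refine Fin.cases ?_ (fun i => ?_) i <;> simp
            map_smul' := fun s v => by
              rw [RingHom.id_apply, ← mulVec_smul]; congr 1; funext i; refine Fin.cases ?_ (fun i => ?_) i <;> simp }
        have hψ : Function.Injective ψ := fun v w h => by
          have h' := congrArg (P⁻¹ *ᵥ ·) h
          simp only [ψ, LinearMap.coe_mk, AddHom.coe_mk, mulVec_mulVec, Matrix.nonsing_inv_mul _ hPu, one_mulVec] at h'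
          funext i
          simpa using congrFun h' i.succ
        have h2 : finrank K ↥((LinearMap.ker (S' - 1).mulVecLin).map ψ) = finrank K ↥(LinearMap.ker (S' - 1).mulVecLin) :=
          (LinearEquiv.finrank_eq (Submodule.equivMapOfInjective ψ hψ _)).symm
        have h3 : (LinearMap.ker (S' - 1).mulVecLin).map ψ ≤
            LinearMap.ker t ⊓ (Submodule.span K {M x + x}).comap M := by
          rintro v ⟨w, hw, rfl⟩
          refine ⟨by show t (P *ᵥ _) = 0; rw [htP]; rfl, Submodule.mem_span_singleton.2 ⟨r' ⬝ᵥ w, ?_⟩⟩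
          have hw' : S' *ᵥ w = (1 : K) • w := by
            have : (S' - 1) *ᵥ w = 0 := hw
            rw [sub_mulVec, one_mulVec, sub_eq_zero] at this
            exact this.trans (one_smul K w).symm
          have := key w 1 hw'
          rw [one_smul, ← hMS] at this
          rw [hMS x]
          exact (add_left_cancel ((add_comm _ _).trans this)).symm
        have h4' := hsmall (by omega)
        have h5 := Submodule.finrank_mono h3
        omega
      refine ⟨?_, hfr⟩
      rintro ⟨μ, hμS⟩
      have hμ0 : μ ≠ 0 := fun h => by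
        rw [hμS, h, zero_smul, det_zero] at hdet'
        · exact zero_ne_one hdet'
      by_cases hcase : 4 ≤ finrank K (Fin (n + 1 + 1) → K) ∨ ∀ s : Finset K, s.card ≤ 4 → ∃ a, a ∉ s
      · obtain ⟨w, hw, hwa⟩ := hμ (by omega) hcase μ hμ0
        obtain ⟨v, rfl⟩ : ∃ v, P *ᵥ v = w := ⟨P⁻¹ *ᵥ w, by rw [mulVec_mulVec, Matrix.mul_nonsing_inv _ hPu, one_mulVec]⟩
        rw [htP] at hw
        refine hwa (r' ⬝ᵥ Fin.tail v) ?_
        rw [hMS, hMS]
        have e : v = Fin.cons 0 (Fin.tail v) := by rw [← hw]; exact (Fin.cons_self_tail v).symm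
        conv_lhs => rw [e]
        rw [key _ μ (by rw [hμS, smul_mulVec, one_mulVec]), ← e]
      · push Not at hcase
        obtain ⟨hn3, s, hs4, hall⟩ := hcase
        obtain rfl : n = 1 := by omega
        haveI : Fintype K := ⟨s, hall⟩
        have hcard : Fintype.card K = 4 := by
          refine le_antisymm ((Finset.card_le_card (fun x _ => hall x)).trans hs4) ?_
          by_contra hlt
          obtain ⟨a, ha⟩ := h4 Finset.univ (by rw [Finset.card_univ]; omega)
          exact ha (Finset.mem_univ a)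
        have h2 : (2 : K) = 0 := by
          have := Nat.cast_card_eq_zero K
          rw [hcard] at this
          have h22 : (2 : K) * 2 = 0 := by push_cast at this; linear_combination this
          exact mul_self_eq_zero.1 h22
        have hμ2 : μ * μ = 1 := by
          rw [hμS, det_smul, det_one, mul_one, Fintype.card_fin] at hdet'
          rwa [← pow_two]
        have hμ1 : μ = 1 := by
          rcases mul_self_eq_one_iff.1 hμ2 with h | h
          · exact h
          · rw [h]; linear_combination (-(1 : K)) * h2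
        rw [hμS, hμ1, one_smul, sub_self] at hfr
        rw [mulVecLin_zero, LinearMap.range_zero, finrank_bot] at hfr
        omega
    obtain ⟨Q', L, U, hQ', hSQ, hL, hU, hc'Q, hr'Q⟩ := ih S' hdet' hwide' c' r' hc' hr'
    have hQu := isUnit_iff_ne_zero.2 hQ'
    refine ⟨P * bord 1 0 0 Q', bord 1 0 (Q'⁻¹ *ᵥ c') L, bord 1 (r' ᵥ* Q') 0 U, ?_, ?_, bord_lowReg hc'Q hL,
      bord_upReg hr'Q hU, ?_, ?_⟩
    · rw [det_mul, det_bord_upper, one_mul]; exact mul_ne_zero hPdet hQ'
    · rw [← Matrix.mul_assoc S, hM', hfac]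
      simp only [Matrix.mul_assoc]
      congr 1
      simp only [← Matrix.mul_assoc, bord_mul]
      congr 1
      · simp
      · simp
      · simp [mulVec_mulVec, Matrix.mul_nonsing_inv _ hQu]
      · simp [Matrix.mul_add, Matrix.mul_vecMulVec, mulVec_mulVec, Matrix.mul_nonsing_inv _ hQu, hSQ]
    · intro h0
      refine htc ?_
      have hPQ : IsUnit (P * bord 1 0 0 Q').det := by
        rw [det_mul, det_bord_upper, one_mul]; exact hPu.mul hQu
      have e : c = (P * bord 1 0 0 Q') *ᵥ ((P * bord 1 0 0 Q')⁻¹ *ᵥ c) := by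
        rw [mulVec_mulVec, Matrix.mul_nonsing_inv _ hPQ, one_mulVec]
      rw [e, ← mulVec_mulVec, htP]
      set w := (P * bord 1 0 0 Q')⁻¹ *ᵥ c
      simp [mulVec, dotProduct, Fin.sum_univ_succ (n := n + 1), h0]
    · rw [← vecMul_vecMul]
      intro h0
      refine hrx ?_
      simp [vecMul, dotProduct, Fin.sum_univ_succ (n := n + 1)] at h0
      show r ⬝ᵥ x = 0
      rw [← hPcol, dotProduct_mulVec]
      simpa [vecMul, dotProduct, Fin.sum_univ_succ (n := n + 1)] using h0

end CfsgLib.Classical.RegularUnipotentProduct
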