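import Mathlib

set_option autoImplicit false

/-!
# Choosing a vector and a covector for one step of the factorisation into regular unipotents
-/

namespace CfsgLib.Classical.RegularUnipotentProduct

open Module

variable {K : Type*} [Field K]

/-- Three scalars never exhaust the field. -/
def Four (K : Type*) : Prop := ∀ s : Finset K, s.card ≤ 3 → ∃ a, a ∉ s

theorem Four.fresh (h4 : Four K) (a b c : K) : ∃ s, s ≠ a ∧ s ≠ b ∧ s ≠ c := by
  classical
  obtain ⟨s, hs⟩ := h4 {a, b, c} (Finset.card_le_three)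
  exact ⟨s, by simpa [not_or] using hs⟩

section avoid

variable {V : Type*} [AddCommGroup V] [Module K V]

theorem ne_zero_of_add_smul {f : V →ₗ[K] K} {x v : V} (hx : f x ≠ 0) {s : K} (hs : s ≠ -f x / f v) :
    f (x + s • v) ≠ 0 := by
  intro h
  rw [map_add, map_smul, smul_eq_mul] at h
  rcases eq_or_ne (f v) 0 with h0 | h0
  · rw [h0, mul_zero, add_zero] at h; exact hx h
  · exact hs (by rw [eq_div_iff h0]; linear_combination h)

theorem avoid2 (f g : V →ₗ[K] K) (hf : f ≠ 0) (hg : g ≠ 0) : ∃ x, f x ≠ 0 ∧ g x ≠ 0 := by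
  obtain ⟨x, hx⟩ := DFunLike.ne_iff.1 hf
  obtain ⟨y, hy⟩ := DFunLike.ne_iff.1 hg
  by_cases hgx : g x = 0
  · by_cases hfy : f y = 0
    · exact ⟨x + y, by simpa [hfy] using hx, by simpa [hgx] using hy⟩
    · exact ⟨y, hfy, hy⟩
  · exact ⟨x, hx, hgx⟩

theorem avoid4 (h4 : Four K) (f g e k : V →ₗ[K] K) (hf : f ≠ 0) (hg : g ≠ 0) (he : e ≠ 0) (hk : k ≠ 0) :
    ∃ x, f x ≠ 0 ∧ g x ≠ 0 ∧ e x ≠ 0 ∧ k x ≠ 0 := by
  obtain ⟨x, hfx, hgx⟩ := avoid2 f g hf hg
  obtain ⟨y, hey, hky⟩ := avoid2 e k he hk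
  by_cases hfy : f y ≠ 0 ∧ g y ≠ 0
  · exact ⟨y, hfy.1, hfy.2, hey, hky⟩
  by_cases hex : e x ≠ 0 ∧ k x ≠ 0
  · exact ⟨x, hfx, hgx, hex.1, hex.2⟩
  have aux : ∀ (φ ψ : V →ₗ[K] K) {a b : V}, φ a ≠ 0 → ψ a ≠ 0 → ¬(φ b ≠ 0 ∧ ψ b ≠ 0) →
      ∃ r : K, ∀ s, s ≠ r → φ (a + s • b) ≠ 0 ∧ ψ (a + s • b) ≠ 0 := by
    intro φ ψ a b ha ha' hb
    by_cases h : φ b = 0
    · exact ⟨-ψ a / ψ b, fun s hs => ⟨by simpa [h] using ha, ne_zero_of_add_smul ha' hs⟩⟩
    · have h' : ψ b = 0 := by by_contra h'; exact hb ⟨h, h'⟩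
      exact ⟨-φ a / φ b, fun s hs => ⟨ne_zero_of_add_smul ha hs, by simpa [h'] using ha'⟩⟩
  obtain ⟨r, hr⟩ := aux f g hfx hgx hfy
  obtain ⟨r', hr'⟩ := aux e k hey hky hex
  obtain ⟨s, hs0, hs1, hs2⟩ := h4.fresh 0 r r'⁻¹
  refine ⟨x + s • y, (hr s hs1).1, (hr s hs1).2, ?_⟩
  obtain ⟨h1, h2⟩ := hr' s⁻¹ (fun h => hs2 (by rw [← h, inv_inv]))
  have e1 : x + s • y = s • (y + s⁻¹ • x) := by rw [smul_add, smul_smul, mul_inv_cancel₀ hs0, one_smul, add_comm]
  rw [e1, map_smul, map_smul, smul_eq_mul, smul_eq_mul]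
  exact ⟨mul_ne_zero hs0 h1, mul_ne_zero hs0 h2⟩

/-- A common non-eigenvector off three hyperplanes. -/
theorem exists_not_eigen (h4 : Four K) (N : V →ₗ[K] V) (hN : ∀ a : K, ∃ x, N x ≠ a • x)
    (f g e : V →ₗ[K] K) (hf : f ≠ 0) (hg : g ≠ 0) (he : e ≠ 0) (hv : ∃ v, v ≠ 0 ∧ f v = 0 ∧ e v = 0) :
    ∃ x, f x ≠ 0 ∧ g x ≠ 0 ∧ e x ≠ 0 ∧ ∀ a : K, N x ≠ a • x := by
  by_contra hall
  push Not at hall
  obtain ⟨v, hv0, hfv, hev⟩ := hv
  obtain ⟨x₀, hfx₀, hgx₀, hex₀, -⟩ := avoid4 h4 f g e e hf hg he he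
  have hline : ∀ x : V, f x ≠ 0 → g x ≠ 0 → e x ≠ 0 → ∃ a : K, N x = a • x ∧ N v = a • v := by
    intro x hfx hgx hex
    obtain ⟨s, hs0, hs, -⟩ := h4.fresh 0 (-g x / g v) 0
    obtain ⟨t, ht0, ht, hts⟩ := h4.fresh 0 (-g x / g v) s
    obtain ⟨a, ha⟩ := hall x hfx hgx hex
    obtain ⟨b, hb⟩ := hall (x + s • v) (by simpa [hfv] using hfx) (ne_zero_of_add_smul hgx hs)
      (by simpa [hev] using hex)
    obtain ⟨c, hc⟩ := hall (x + t • v) (by simpa [hfv] using hfx) (ne_zero_of_add_smul hgx ht)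
      (by simpa [hev] using hex)
    refine ⟨a, ha, ?_⟩
    rw [map_add, map_smul, ha] at hb hc
    have h1 : N v = (s⁻¹ * (b - a)) • x + b • v := by
      have h := congrArg (fun w => s⁻¹ • (w - a • x)) hb
      simp only [add_sub_cancel_left, inv_smul_smul₀ hs0] at h
      rw [h, smul_sub, smul_smul, smul_add, smul_smul, smul_smul,
        show s⁻¹ * b * s = b by rw [mul_comm s⁻¹, mul_assoc, inv_mul_cancel₀ hs0, mul_one]]
      module
    have h2 : N v = (t⁻¹ * (c - a)) • x + c • v := by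
      have h := congrArg (fun w => t⁻¹ • (w - a • x)) hc
      simp only [add_sub_cancel_left, inv_smul_smul₀ ht0] at h
      rw [h, smul_sub, smul_smul, smul_add, smul_smul, smul_smul,
        show t⁻¹ * c * t = c by rw [mul_comm t⁻¹, mul_assoc, inv_mul_cancel₀ ht0, mul_one]]
      module
    have h3 : (s⁻¹ * (b - a) - t⁻¹ * (c - a)) • x + (b - c) • v = 0 := by
      rw [sub_smul, sub_smul, ← sub_eq_zero.2 (h1.symm.trans h2)]; abel
    have hxc : s⁻¹ * (b - a) - t⁻¹ * (c - a) = 0 := by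
      have := congrArg f h3
      rw [map_add, map_smul, map_smul, map_zero, hfv, smul_eq_mul, smul_eq_mul, mul_zero, add_zero] at this
      exact (mul_eq_zero.1 this).resolve_right hfx
    have hbc : b = c := by
      rw [hxc, zero_smul, zero_add] at h3
      exact sub_eq_zero.1 ((smul_eq_zero.1 h3).resolve_right hv0)
    have hba : b = a := by
      rw [← hbc, ← sub_mul] at hxc
      refine sub_eq_zero.1 ((mul_eq_zero.1 hxc).resolve_left fun h => hts ?_)
      exact (inv_injective (sub_eq_zero.1 h)).symm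
    rw [h1, hba, sub_self, mul_zero, zero_smul, zero_add]
  obtain ⟨a₀, hx₀, hv₀⟩ := hline x₀ hfx₀ hgx₀ hex₀
  have hgood : ∀ x, f x ≠ 0 → g x ≠ 0 → e x ≠ 0 → N x = a₀ • x := by
    intro x hfx hgx hex
    obtain ⟨a, ha, hva⟩ := hline x hfx hgx hex
    have : a = a₀ := by
      have h := sub_eq_zero.2 (hva.symm.trans hv₀)
      rw [← sub_smul] at h
      exact sub_eq_zero.1 ((smul_eq_zero.1 h).resolve_right hv0)
    rw [ha, this]
  have hker : ∀ w, f w = 0 → N w = a₀ • w := by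
    intro w hw
    obtain ⟨s, hs0, hsg, hse⟩ := h4.fresh 0 (-g x₀ / g w) (-e x₀ / e w)
    have h := hgood (x₀ + s • w) (by simpa [hw] using hfx₀) (ne_zero_of_add_smul hgx₀ hsg)
      (ne_zero_of_add_smul hex₀ hse)
    rw [map_add, map_smul, hx₀, smul_add, add_right_inj, smul_comm] at h
    exact smul_right_injective V hs0 h
  obtain ⟨w, hw⟩ := hN a₀
  have h := hker (w - (f w / f x₀) • x₀) (by simp [hfx₀])
  rw [map_sub, map_smul, hx₀, smul_sub, smul_comm a₀] at h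
  exact hw (by simpa using h)

theorem exists_dual_of_notMem {p : Submodule K V} {z : V} (hz : z ∉ p) :
    ∃ f : V →ₗ[K] K, f z ≠ 0 ∧ ∀ w ∈ p, f w = 0 := by
  obtain ⟨f, hf, hmap⟩ := Submodule.exists_dual_map_eq_bot_of_notMem hz inferInstance
  exact ⟨f, hf, fun w hw => by
    have h1 : f w ∈ p.map f := Submodule.mem_map_of_mem hw
    rw [hmap] at h1
    simpa using h1⟩

theorem exists_ne_zero_dual {p : Submodule K V} (hp : p ≠ ⊤) :
    ∃ f : V →ₗ[K] K, f ≠ 0 ∧ ∀ w ∈ p, f w = 0 := by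
  obtain ⟨z, hz⟩ : ∃ z, z ∉ p := by
    by_contra! h
    exact hp ((Submodule.eq_top_iff').2 h)
  obtain ⟨f, hf, hfp⟩ := exists_dual_of_notMem hz
  exact ⟨f, fun e => hf (by simp [e]), hfp⟩

end avoid

variable {V : Type*} [AddCommGroup V] [Module K V] [FiniteDimensional K V]

theorem exists_common_kernel {n : ℕ} (hn : n < finrank K V) (f : Fin n → V →ₗ[K] K) :
    ∃ v, v ≠ 0 ∧ ∀ i, f i v = 0 := by
  have h : LinearMap.ker (LinearMap.pi f) ≠ ⊥ := LinearMap.ker_ne_bot_of_finrank_lt (by simpa using hn)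
  obtain ⟨v, hv, hv0⟩ := Submodule.exists_mem_ne_zero_of_ne_bot h
  exact ⟨v, hv0, fun i => congrFun (LinearMap.mem_ker.1 hv) i⟩

theorem finrank_comap_le (M : V →ₗ[K] V) (p : Submodule K V) :
    finrank K (p.comap M) ≤ finrank K (LinearMap.ker M) + finrank K p := by
  rw [← (M.domRestrict (p.comap M)).finrank_range_add_finrank_ker, add_comm]
  refine add_le_add ?_ (Submodule.finrank_mono ?_)
  · rw [← Submodule.finrank_map_subtype_eq]
    exact Submodule.finrank_mono fun w ⟨u, hu, e⟩ => by rw [← e]; exact hu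
  · rintro w ⟨u, rfl⟩
    exact u.2

/-- The vector of one step. -/
theorem choose_vec (h4 : Four K) (M : V →ₗ[K] V) (hrk : 2 ≤ finrank K (LinearMap.range M))
    (hns : ∀ a : K, ∃ x, M x ≠ a • x) (hinj : ∀ x, M x + x = 0 → x = 0)
    (hN : finrank K V = 3 → ∀ a : K, ∃ x, M (M x) ≠ a • (M x + x))
    (r : V →ₗ[K] K) (hr : r ≠ 0) (c : V) (hc0 : c ≠ 0) :
    ∃ x, r x ≠ 0 ∧ c ∉ Submodule.span K {M x} ∧ (∀ a : K, M x ≠ a • x) ∧
      (finrank K V = 3 → ∀ a : K, M (M x) ≠ a • (M x + x)) ∧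
      (3 ≤ finrank K V → LinearMap.range M ≠ ⊤ → x ∉ LinearMap.range M) := by
  classical
  have hS : Function.Bijective (M + LinearMap.id : V →ₗ[K] V) := by
    have hi : Function.Injective (M + LinearMap.id : V →ₗ[K] V) := (injective_iff_map_eq_zero _).2 hinj
    exact ⟨hi, LinearMap.injective_iff_surjective.1 hi⟩
  let S := LinearEquiv.ofBijective (M + LinearMap.id : V →ₗ[K] V) hS
  have hSx : ∀ x, S x = M x + x := fun x => rfl
  let N : V →ₗ[K] V := if finrank K V = 3 then S.symm.toLinearMap ∘ₗ (M ∘ₗ M) else M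
  have hU : (Submodule.span K {c}).comap M ≠ ⊤ := by
    intro h
    have h1 : LinearMap.range M ≤ Submodule.span K {c} := by
      rintro w ⟨u, rfl⟩
      exact (h ▸ Submodule.mem_top : u ∈ (Submodule.span K {c}).comap M)
    have h2 := Submodule.finrank_mono h1
    have h3 : finrank K (Submodule.span K {c}) ≤ 1 := (finrank_span_le_card {c}).trans (by simp)
    omega
  obtain ⟨g, hg, hgU⟩ := exists_ne_zero_dual hU
  obtain ⟨e, he, hev, her⟩ : ∃ e : V →ₗ[K] K, e ≠ 0 ∧ (∃ v, v ≠ 0 ∧ r v = 0 ∧ e v = 0) ∧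
      (3 ≤ finrank K V → LinearMap.range M ≠ ⊤ → ∀ w ∈ LinearMap.range M, e w = 0) := by
    have h2 : 2 ≤ finrank K V := hrk.trans (Submodule.finrank_le _)
    by_cases h : 3 ≤ finrank K V ∧ LinearMap.range M ≠ ⊤
    · obtain ⟨e, he, her⟩ := exists_ne_zero_dual h.2
      obtain ⟨v, hv, hvv⟩ := exists_common_kernel (n := 2) (by omega) ![r, e]
      exact ⟨e, he, ⟨v, hv, hvv 0, hvv 1⟩, fun _ _ => her⟩
    · obtain ⟨v, hv, hvv⟩ := exists_common_kernel (n := 1) (by omega) ![r]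
      exact ⟨r, hr, ⟨v, hv, hvv 0, hvv 0⟩, fun a b => absurd ⟨a, b⟩ h⟩
  have hNns : ∀ a : K, ∃ x, N x ≠ a • x := by
    intro a
    by_cases h : finrank K V = 3
    · obtain ⟨x, hx⟩ := hN h a
      refine ⟨x, fun h' => hx ?_⟩
      simp only [N, if_pos h, LinearMap.comp_apply, LinearEquiv.coe_coe] at h'
      have := congrArg S h'
      rwa [LinearEquiv.apply_symm_apply, map_smul, hSx] at this
    · simp only [N, if_neg h]; exact hns a
  obtain ⟨x, hrx, hgx, hex, hNx⟩ := exists_not_eigen h4 N hNns r g e hr hg he hev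
  have hN3 : finrank K V = 3 → ∀ a : K, M (M x) ≠ a • (M x + x) := fun h a ha => hNx a <| by
    simp only [N, if_pos h]
    rw [LinearMap.comp_apply, LinearMap.comp_apply, ha, ← hSx]
    simp
  refine ⟨x, hrx, fun hc => ?_, fun a ha => ?_, hN3, fun h3 hM hx => hex (her h3 hM x hx)⟩
  · obtain ⟨a, rfl⟩ := Submodule.mem_span_singleton.1 hc
    refine hgx (hgU x ?_)
    rw [Submodule.mem_comap]
    rcases eq_or_ne a 0 with rfl | ha
    · exact absurd (zero_smul K _) hc0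
    · exact Submodule.mem_span_singleton.2 ⟨a⁻¹, by rw [inv_smul_smul₀ ha]⟩
  · by_cases h : finrank K V = 3
    · have ha1 : a + 1 ≠ 0 := fun h0 => hrx (by
        rw [hinj x (by rw [ha, ← one_smul K x, smul_smul, mul_one, ← add_smul, h0, zero_smul]), map_zero])
      refine hN3 h (a * a / (a + 1)) ?_
      rw [ha, map_smul, ha, smul_smul, ← one_smul K x, smul_smul, smul_smul, mul_one, ← add_smul, smul_smul,
        mul_one, div_mul_cancel₀ _ ha1]
    · exact hNx a (by simp only [N, if_neg h]; exact ha)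

/-- The covector of one step. -/
theorem choose_covec (h4 : Four K) (M : V →ₗ[K] V) (hrk : 2 ≤ finrank K (LinearMap.range M))
    {x c : V} (hx : ∀ a : K, M x ≠ a • x) (hc : c ∉ Submodule.span K {M x})
    (hN : finrank K V = 3 → ∀ a : K, M (M x) ≠ a • (M x + x))
    (hxr : 3 ≤ finrank K V → LinearMap.range M ≠ ⊤ → x ∉ LinearMap.range M) :
    ∃ t : V →ₗ[K] K, t x = 1 ∧ t (M x) = 0 ∧ t c ≠ 0 ∧ (∃ v, t (M v) ≠ 0) ∧
      (3 ≤ finrank K V → finrank K ↥(LinearMap.ker t ⊓ (Submodule.span K {M x + x}).comap M) + 3 ≤ finrank K V) ∧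
      (3 ≤ finrank K V → (4 ≤ finrank K V ∨ ∀ s : Finset K, s.card ≤ 4 → ∃ a, a ∉ s) →
        ∀ μ : K, μ ≠ 0 → ∃ w, t w = 0 ∧ ∀ a : K, M w + w ≠ μ • w + a • (M x + x)) := by
  classical
  set y := M x with hy
  have hy0 : y ≠ 0 := fun h => hx 0 (h.trans (zero_smul K x).symm)
  have hxy : x ∉ Submodule.span K {y} := by
    rw [Submodule.mem_span_singleton]
    rintro ⟨a, ha⟩
    rcases eq_or_ne a 0 with rfl | ha0
    · rw [zero_smul] at ha
      exact hy0 (by rw [hy, ← ha, map_zero])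
    · exact hx a⁻¹ ((inv_smul_smul₀ ha0 y).symm.trans (congrArg _ ha))
  set B := (Submodule.span K {y + x}).comap M with hB
  obtain ⟨u, v₀, hu, huy⟩ : ∃ u v₀, M v₀ = u ∧ u ∉ Submodule.span K {y} := by
    by_contra! h
    have h1 := Submodule.finrank_mono (show LinearMap.range M ≤ Submodule.span K {y} from
      fun w ⟨v, hv⟩ => h w v hv)
    have h3 : finrank K (Submodule.span K {y}) ≤ 1 := (finrank_span_le_card {y}).trans (by simp)
    omega
  obtain ⟨k, hky, hk⟩ : ∃ k, k ∉ Submodule.span K {y} ∧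
      ((k ∈ B) ∨ B ≤ Submodule.span K {y}) := by
    by_cases h : B ≤ Submodule.span K {y}
    · exact ⟨x, hxy, Or.inr h⟩
    · obtain ⟨k, hk, hky⟩ := SetLike.not_le_iff_exists.1 h
      exact ⟨k, hky, Or.inl hk⟩
  let A : Submodule K (V →ₗ[K] K) := LinearMap.ker (LinearMap.applyₗ y : (V →ₗ[K] K) →ₗ[K] K)
  let φ : V → A →ₗ[K] K := fun z => (LinearMap.applyₗ z : (V →ₗ[K] K) →ₗ[K] K) ∘ₗ A.subtype
  have hφ : ∀ z (f : A), φ z f = f.1 z := fun z f => rfl
  have hAy : ∀ f : A, f.1 y = 0 := fun f => f.2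
  have hφ0 : ∀ z, z ∉ Submodule.span K {y} → φ z ≠ 0 := fun z hz h => by
    obtain ⟨f, hf, hfy⟩ := exists_dual_of_notMem hz
    exact hf (by simpa [hφ] using DFunLike.congr_fun h ⟨f, hfy y (Submodule.mem_span_singleton_self y)⟩)
  obtain ⟨f, hfx, hfc, hfu, hfk⟩ := avoid4 (V := A) h4 (φ x) (φ c) (φ u) (φ k) (hφ0 x hxy) (hφ0 c hc) (hφ0 u huy) (hφ0 k hky)
  simp only [hφ] at hfx hfc hfu hfk
  -- properties of a normalised good covector
  have good : ∀ f : A, f.1 x ≠ 0 → f.1 c ≠ 0 → f.1 u ≠ 0 → f.1 k ≠ 0 →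
      ((f.1 x)⁻¹ • f.1) x = 1 ∧ ((f.1 x)⁻¹ • f.1) y = 0 ∧ ((f.1 x)⁻¹ • f.1) c ≠ 0 ∧
      (∃ v, ((f.1 x)⁻¹ • f.1) (M v) ≠ 0) ∧
      (3 ≤ finrank K V → finrank K ↥(LinearMap.ker ((f.1 x)⁻¹ • f.1) ⊓ B) + 3 ≤ finrank K V) := by
    intro f hfx hfc hfu hfk
    refine ⟨by simp [hfx], by simp [hAy f], by simp [hfx, hfc], ⟨v₀, by simp [hu, hfx, hfu]⟩, fun h3 => ?_⟩
    have hker : finrank K (LinearMap.ker M) + finrank K (LinearMap.range M) = finrank K V := by
      rw [add_comm]; exact M.finrank_range_add_finrank_ker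
    have h1 : finrank K (Submodule.span K {y + x}) ≤ 1 := (finrank_span_le_card {y + x}).trans (by simp)
    have hBle : finrank K B + 2 ≤ finrank K V := by
      by_cases hd : 3 ≤ finrank K (LinearMap.range M)
      · have := finrank_comap_le M (Submodule.span K {y + x})
        rw [hB]; omega
      · have hne : LinearMap.range M ≠ ⊤ := fun e => by
          rw [e, finrank_top] at hd; omega
        have hBk : B ≤ LinearMap.ker M := fun w hw => by
          obtain ⟨a, ha⟩ := Submodule.mem_span_singleton.1 hw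
          rcases eq_or_ne a 0 with rfl | ha0
          · rw [zero_smul] at ha; exact LinearMap.mem_ker.2 ha.symm
          · refine absurd ?_ (hxr h3 hne)
            have e1 : y + x = M (a⁻¹ • w) := by rw [map_smul, ← ha, inv_smul_smul₀ ha0]
            exact ⟨a⁻¹ • w - x, by rw [map_sub, ← e1, ← hy, add_sub_cancel_left]⟩
        have := Submodule.finrank_mono hBk
        omega
    rcases hk with hkB | hBy
    · have hlt : LinearMap.ker ((f.1 x)⁻¹ • f.1) ⊓ B < B := by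
        refine lt_of_le_of_ne inf_le_right fun e => ?_
        have : k ∈ LinearMap.ker ((f.1 x)⁻¹ • f.1) := (inf_eq_right.1 e) hkB
        simp [hfx, hfk] at this
      have := Submodule.finrank_lt_finrank_of_lt hlt
      omega
    · by_cases h4' : 4 ≤ finrank K V
      · have h2 := Submodule.finrank_mono (inf_le_right.trans hBy : LinearMap.ker ((f.1 x)⁻¹ • f.1) ⊓ B ≤ _)
        have h5 : finrank K (Submodule.span K {y}) ≤ 1 := (finrank_span_le_card {y}).trans (by simp)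
        omega
      · have hB0 : B = ⊥ := (Submodule.eq_bot_iff _).2 fun w hw => by
          obtain ⟨a, rfl⟩ := Submodule.mem_span_singleton.1 (hBy hw)
          rcases eq_or_ne a 0 with rfl | ha0
          · exact zero_smul K y
          · exfalso
            obtain ⟨b, hb⟩ := Submodule.mem_span_singleton.1 (hw : M (a • y) ∈ Submodule.span K {y + x})
            refine hN (by omega) (a⁻¹ * b) ?_
            calc M y = a⁻¹ • M (a • y) := by rw [map_smul, inv_smul_smul₀ ha0]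
              _ = _ := by rw [← hb, mul_smul]
        rw [hB0, inf_bot_eq, finrank_bot]
        omega
  by_cases hsecond : 3 ≤ finrank K V ∧ (4 ≤ finrank K V ∨ ∀ s : Finset K, s.card ≤ 4 → ∃ a, a ∉ s)
  swap
  · obtain ⟨h1, h2, h3, h5, h6⟩ := good f hfx hfc hfu hfk
    exact ⟨_, h1, h2, h3, h5, h6, fun a b => absurd ⟨a, b⟩ hsecond⟩
  obtain ⟨h3, hfield⟩ := hsecond
  obtain ⟨g, hg0, hgx, s, hs0, hsc, hsu, hsk⟩ : ∃ g : A, g ≠ 0 ∧ g.1 x = 0 ∧ ∃ s : K, s ≠ 0 ∧
      (f + s • g).1 c ≠ 0 ∧ (f + s • g).1 u ≠ 0 ∧ (f + s • g).1 k ≠ 0 := by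
    have hA : finrank K V ≤ finrank K A + 1 := by
      have h := (LinearMap.applyₗ y : (V →ₗ[K] K) →ₗ[K] K).finrank_range_add_finrank_ker
      have h' := Submodule.finrank_le (LinearMap.range (LinearMap.applyₗ y : (V →ₗ[K] K) →ₗ[K] K))
      rw [finrank_self] at h'
      have e : finrank K (V →ₗ[K] K) = finrank K V := Subspace.dual_finrank_eq
      rw [e] at h
      show finrank K V ≤ finrank K ↥(LinearMap.ker _) + 1
      omega
    have hstep : ∀ (g : A) (z : V) (s : K), f.1 z ≠ 0 → s ≠ -f.1 z / g.1 z → (f + s • g).1 z ≠ 0 :=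
      fun g z s hz hs => by
        have := ne_zero_of_add_smul (f := φ z) (v := g) (x := f) hz hs
        simpa [hφ] using this
    rcases hfield with h4' | h5
    · obtain ⟨g, hg0, hg⟩ := exists_common_kernel (V := A) (n := 2) (by omega) ![φ x, φ c]
      obtain ⟨s, hs0, hs1, hs2⟩ := h4.fresh 0 (-f.1 u / g.1 u) (-f.1 k / g.1 k)
      have hgc : g.1 c = 0 := hg 1
      exact ⟨g, hg0, hg 0, s, hs0, by simp [hgc, hfc], hstep g u s hfu hs1, hstep g k s hfk hs2⟩
    · obtain ⟨g, hg0, hg⟩ := exists_common_kernel (V := A) (n := 1) (by omega) ![φ x]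
      obtain ⟨s, hs⟩ := h5 {0, -f.1 c / g.1 c, -f.1 u / g.1 u, -f.1 k / g.1 k} Finset.card_le_four
      simp only [Finset.mem_insert, Finset.mem_singleton, not_or] at hs
      exact ⟨g, hg0, hg 0, s, hs.1, hstep g c s hfc hs.2.1, hstep g u s hfu hs.2.2.1, hstep g k s hfk hs.2.2.2⟩
  set f' := f + s • g with hf'
  have hf'x : f'.1 x = f.1 x := by simp [hf', hgx]
  have hG := good f hfx hfc hfu hfk
  have hG' := good f' (hf'x ▸ hfx) hsc hsu hsk
  set t := (f.1 x)⁻¹ • f.1 with ht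
  set t' := (f'.1 x)⁻¹ • f'.1 with ht'
  have hne : t ≠ t' := by
    intro e
    rw [ht, ht', hf'x] at e
    have e' := smul_right_injective _ (inv_ne_zero hfx) e
    have e'' : s • g.1 = 0 := by simpa [hf'] using e'
    exact hg0 (Subtype.ext ((smul_eq_zero.1 e'').resolve_left hs0))
  by_cases hbad : ∀ μ : K, μ ≠ 0 → ∃ w, t w = 0 ∧ ∀ a : K, M w + w ≠ μ • w + a • (y + x)
  · exact ⟨t, hG.1, hG.2.1, hG.2.2.1, hG.2.2.2.1, hG.2.2.2.2, fun _ _ => hbad⟩
  refine ⟨t', hG'.1, hG'.2.1, hG'.2.2.1, hG'.2.2.2.1, hG'.2.2.2.2, fun _ _ => ?_⟩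
  by_contra hbad'
  push Not at hbad hbad'
  obtain ⟨μ, hμ, hb⟩ := hbad
  obtain ⟨μ', -, hb'⟩ := hbad'
  -- the exceptional scalar agrees on the common kernel
  obtain ⟨w, hw0, hw⟩ := exists_common_kernel (n := 2) (by omega) ![t, t']
  have hμμ : μ = μ' := by
    obtain ⟨a, ha⟩ := hb w (hw 0)
    obtain ⟨a', ha'⟩ := hb' w (hw 1)
    have h := ha.symm.trans ha'
    have ht1 := congrArg t h
    simp only [map_add, map_smul, hG.1, hG.2.1, show t w = 0 from hw 0, smul_eq_mul, zero_add, add_zero, mul_zero,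
      mul_one] at ht1
    rw [ht1, add_left_inj, ← sub_eq_zero, ← sub_smul] at h
    exact sub_eq_zero.1 ((smul_eq_zero.1 h).resolve_right hw0)
  obtain ⟨z, hz, hz'⟩ : ∃ z, t z = 0 ∧ t' z ≠ 0 := by
    by_contra! h
    refine hne (LinearMap.ext fun v => ?_)
    have := h (v - t v • x) (by simp [hG.1])
    rw [map_sub, map_smul, hG'.1, smul_eq_mul, mul_one, sub_eq_zero] at this
    exact this.symm
  obtain ⟨a, ha⟩ := hb z hz
  obtain ⟨a', ha'⟩ := hb' (x - (t' z)⁻¹ • z) (by simp [hG'.1, hz'])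
  rw [← hμμ, map_sub, map_smul] at ha'
  have hkey : M x + x = μ • x + (a' + (t' z)⁻¹ * a) • (y + x) := by
    have h : M x + x = μ • (x - (t' z)⁻¹ • z) + a' • (y + x) + (t' z)⁻¹ • (M z + z) := by
      rw [← ha', smul_add]; abel
    refine h.trans ?_
    rw [ha]
    module
  have hq : (1 - (a' + (t' z)⁻¹ * a)) • (y + x) = μ • x := by
    rw [sub_smul, one_smul, sub_eq_iff_eq_add]; exact hkey
  rcases eq_or_ne (1 - (a' + (t' z)⁻¹ * a)) 0 with h0 | h0
  · rw [h0, zero_smul] at hq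
    exact hxy ((smul_eq_zero.1 hq.symm).resolve_left hμ ▸ Submodule.zero_mem _)
  · refine hx ((1 - (a' + (t' z)⁻¹ * a))⁻¹ * μ - 1) ?_
    rw [sub_smul, one_smul, mul_smul, ← hq, inv_smul_smul₀ h0, add_sub_cancel_right]

end CfsgLib.Classical.RegularUnipotentProduct
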